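import Cfsg.Agent.H89.Shult.TwoClosureCore
import Cfsg.Agent.H21.Shult.TwoGauss

/-!
Shult's fixed point theorem, several radicals, radical `Z` for every character trivial on the
centre: an element carrying a noncentral element of `Z` into the maximal invariant overgroup lies
in it.
-/

set_option autoImplicit false
set_option linter.all false

open Subgroup
open H41.Shult (act)

namespace H89.Shult

variable {G : Type*} [Group G] [Finite G] {σ : MulAut G} {r m p : ℕ} {S U Z H₀ : Subgroup G}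

theorem two_le_index_cenZ (B : H41.Shult.Two σ r m p S U Z H₀) : 2 ≤ (cenZ U Z).index := by
  obtain ⟨e, he, hne⟩ := B.exists_noncentral
  have h1 : (cenZ U Z).index ≠ 1 := fun h => hne
    (mem_cenZ.mp (show (⟨⟨e, B.hZU he⟩, he⟩ : Z.subgroupOf U) ∈ cenZ U Z by
      rw [index_eq_one.mp h]; trivial))
  have h0 : (cenZ U Z).index ≠ 0 := index_ne_zero_of_finite
  omega

/-- Closure: `g e g⁻¹ ∈ H₀` with `e ∈ Z` noncentral forces `g ∈ H₀`. -/
theorem mem_of_conj (B : H41.Shult.Two σ r m p S U Z H₀)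
    (hodd : Odd (Nat.card (act σ U)))
    (hidx : (Z.subgroupOf U).index = 2 ^ (4 * m))
    (hrad : ∀ χ : (Z.subgroupOf U) →* ℤˣ, χ ≠ 1 →
      (∀ z : Z.subgroupOf U, ((z : U) : G) ∈ center G → χ z = 1) →
      B.fd.rad χ = Z.subgroupOf U)
    (hinv : ∀ x ∈ S, σ x = x → x * x ∈ center G → ∃ z ∈ Z, z⁻¹ * x ∈ center G)
    (hfix : ∀ v : U, (v : G) ∉ Z → ∃ φ ∈ act σ U, φ v * v⁻¹ ∉ Z.subgroupOf U)
    {g e : G} (he : e ∈ Z) (hne : e ∉ center G) (hg : g * e * g⁻¹ ∈ H₀) : g ∈ H₀ :=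
  mem_of_conj_of_count B hodd hidx hrad hinv hfix
    (fun X hZX hX => H21.Shult.TwoGauss.card_le_of_sv_mem B.fd hidx (cenZ U Z)
      (two_le_index_cenZ B) hrad hZX hX)
    (H21.Shult.TwoGauss.card_sv_mem B.fd hidx (cenZ U Z) hrad) he hne hg

/-- The `hfix` hypothesis from the transfer form. -/
theorem mem_of_conj' (B : H41.Shult.Two σ r m p S U Z H₀)
    (hodd : Odd (Nat.card (act σ U)))
    (hidx : (Z.subgroupOf U).index = 2 ^ (4 * m))
    (hrad : ∀ χ : (Z.subgroupOf U) →* ℤˣ, χ ≠ 1 →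
      (∀ z : Z.subgroupOf U, ((z : U) : G) ∈ center G → χ z = 1) →
      B.fd.rad χ = Z.subgroupOf U)
    (hinv : ∀ x ∈ S, σ x = x → x * x ∈ center G → ∃ z ∈ Z, z⁻¹ * x ∈ center G)
    (hfix : ∀ {v : U}, (v : G) ∉ Z → (∀ φ ∈ act σ U, φ v * v⁻¹ ∈ Z.subgroupOf U) → False)
    {g e : G} (he : e ∈ Z) (hne : e ∉ center G) (hg : g * e * g⁻¹ ∈ H₀) : g ∈ H₀ :=
  mem_of_conj B hodd hidx hrad hinv (fun v hv => by
    by_contra hc
    push Not at hc
    exact hfix hv hc) he hne hg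

end H89.Shult
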