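import Cfsg.Agent.H41.Shult.TwoAxis
import Cfsg.Agent.H89.Shult.TwoClosure

/-!
Shult's fixed point theorem, several radicals with a common axis: an element carrying a noncentral
element of `Z` into the maximal invariant overgroup lies in it.
-/

set_option autoImplicit false
set_option linter.all false

open Subgroup
open H41.Shult (act ncen)

namespace H89.Shult.Axis

open H85.Shult (Top fixed disp Inv)

variable {G : Type*} [Group G] [Finite G] {σ : MulAut G} {r m p : ℕ} {S U Z H₀ : Subgroup G}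
  {B : H41.Shult.Two σ r m p S U Z H₀} {X : Subgroup G} (A : H41.Shult.Axis B X)
include A

theorem index_cenZ_eq : (cenZ U Z).index = (Z ⊓ center G).relIndex Z := by
  have h : cenZ U Z =
      ((Z ⊓ center G).subgroupOf Z).comap (subgroupOfEquivOfLe B.hZU).toMonoidHom := by
    ext z
    exact ⟨fun hz => ⟨z.2, hz⟩, fun hz => hz.2⟩
  rw [h, index_comap_of_surjective _ (subgroupOfEquivOfLe B.hZU).surjective]
  rfl

theorem card_bounds :
    Nat.card U = 2 ^ (2 * m) * (2 ^ (2 * m) * Nat.card (Z.subgroupOf U)) ∧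
    Nat.card (X.subgroupOf U) = 2 ^ (2 * m) * Nat.card (Z.subgroupOf U) ∧
    (cenZ U Z).index < 2 ^ (2 * m) := by
  refine ⟨?_, ?_, index_cenZ_eq A ▸ A.lt⟩
  · rw [← (Z.subgroupOf U).card_mul_index, A.idxU, show 4 * m = 2 * m + 2 * m by ring, pow_add]
    ring
  · have h := (Z.subgroupOf X).card_mul_index
    rw [Nat.card_congr (subgroupOfEquivOfLe A.le).toEquiv,
      show (Z.subgroupOf X).index = 2 ^ (2 * m) from A.idx] at h
    rw [Nat.card_congr (subgroupOfEquivOfLe A.leU).toEquiv,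
      Nat.card_congr (subgroupOfEquivOfLe B.hZU).toEquiv, ← h, mul_comm]

/-- The centraliser modulo the centre of an element of `U` is large. -/
theorem cenOf_large (t : U) : Nat.card (X.subgroupOf U) < Nat.card (cenOf B t) := by
  obtain ⟨hU, hX, hN⟩ := card_bounds A
  have hup := card_le_mul_cenOf B t
  rw [hU] at hup
  rw [hX]
  refine lt_of_not_ge fun hle => ?_
  have h1 := hup.trans (Nat.mul_le_mul_right (cenZ U Z).index hle)
  rw [mul_comm (2 ^ (2 * m)) (2 ^ (2 * m) * Nat.card (Z.subgroupOf U))] at h1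
  have hpos : 0 < 2 ^ (2 * m) * Nat.card (Z.subgroupOf U) :=
    Nat.mul_pos (by positivity) Nat.card_pos
  have := Nat.le_of_mul_le_mul_left h1 hpos
  omega

/-- An image of a noncentral element of `Z` lying in `S` is fixed. -/
theorem image_fixed {g e : G} (he : e ∈ Z) (hne : e ∉ center G) (hS : g * e * g⁻¹ ∈ S) :
    σ (g * e * g⁻¹) = g * e * g⁻¹ := by
  classical
  haveI : Fact (Nat.Prime 2) := ⟨Nat.prime_two⟩
  by_contra hbad
  let Bad := {x : G // x ∈ S ∧ (∃ g : G, ∃ e ∈ Z, e ∉ center G ∧ g * e * g⁻¹ = x) ∧ σ x ≠ x}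
  haveI : Nonempty Bad := ⟨⟨_, hS, ⟨g, e, he, hne, rfl⟩, hbad⟩⟩
  obtain ⟨⟨x, hxS, ⟨g₁, e₁, he₁, hne₁, hgx⟩, hxf⟩, hmax⟩ :=
    Finite.exists_max fun x : Bad => Nat.card ↥(S ⊓ ncen (x : G))
  clear hS hbad he hne g e
  set T := S ⊓ ncen x with hT
  have hxT : x ∈ T := ⟨hxS, H41.Shult.self_mem_ncen x⟩
  have hx2 : x * x ∈ center G := by
    rw [← hgx, show g₁ * e₁ * g₁⁻¹ * (g₁ * e₁ * g₁⁻¹) = g₁ * (e₁ * e₁) * g₁⁻¹ by group,
      B.cfg.sqZ e₁ he₁, mul_one, mul_inv_cancel]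
    exact one_mem _
  have hg₁ : g₁ ∉ H₀ := fun h => hxf (hgx ▸ fixed_of_conj B h he₁ (hgx ▸ hxS))
  obtain ⟨u, hu, k, hk, hσk, hkU, hxe, huX⟩ := A.invol hxS hx2
  have hnc : ∀ v ∈ U, v * x * v⁻¹ * x⁻¹ = v * u * v⁻¹ * u⁻¹ := by
    intro v hv
    rw [hxe, show v * (u * k) * v⁻¹ * (u * k)⁻¹ = v * u * (k * v⁻¹) * k⁻¹ * u⁻¹ by group,
      hkU _ (inv_mem hv)]
    group
  -- `T` is not all of `S`
  have hTlt : Nat.card T < Nat.card S := by
    refine lt_of_le_of_ne (Subgroup.card_le_of_le inf_le_left) fun heq => hxf ?_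
    have hTS : T = S := eq_of_le_of_card_ge inf_le_left heq.ge
    have huZ : u ∈ Z := B.mem_Z_of_comm_center hu fun v hv => by
      have hvn : v ∈ T := hTS.symm ▸ B.hUS hv
      have h1 := inv_mem (H41.Shult.mem_ncen.mp hvn.2)
      rw [hnc v hv] at h1
      rwa [show (v * u * v⁻¹ * u⁻¹)⁻¹ = u * v * u⁻¹ * v⁻¹ by group] at h1
    rw [hxe, map_mul, hσk, B.fixZ huZ]
  -- a 2-group of order at least `|S|` centralises `x`
  set P₀ := S.map (MulAut.conj g₁).toMonoidHom with hP₀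
  have hP₀C : P₀ ≤ ncen x := by
    rintro _ ⟨s, hs, rfl⟩
    show g₁ * s * g₁⁻¹ ∈ ncen x
    rw [← hgx]
    exact H41.Shult.conj_mem_ncen (H41.Shult.mem_ncen.mpr (A.cenS' hs he₁))
  obtain ⟨P, hP⟩ := ((B.cfg.pS.map (MulAut.conj g₁).toMonoidHom).of_equiv
    (subgroupOfEquivOfLe hP₀C).symm).exists_le_sylow
  obtain ⟨Q, hQ⟩ := ((B.cfg.pS.to_le (inf_le_left : T ≤ S)).of_equiv
    (subgroupOfEquivOfLe (inf_le_right : T ≤ ncen x)).symm).exists_le_sylow
  set Q' := (Q : Subgroup (ncen x)).map (ncen x).subtype with hQ'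
  have hTQ : T ≤ Q' := fun t ht => ⟨⟨t, ht.2⟩, hQ ht, rfl⟩
  have hQC : Q' ≤ ncen x := map_subtype_le _
  have hQ2 : IsPGroup 2 Q' := Q.2.map _
  have hQlt : Nat.card T < Nat.card Q' := by
    refine lt_of_lt_of_le hTlt ?_
    calc Nat.card S = Nat.card P₀ := (card_map_of_injective (MulAut.conj g₁).injective).symm
      _ = Nat.card (P₀.subgroupOf (ncen x)) :=
          (Nat.card_congr (subgroupOfEquivOfLe hP₀C).toEquiv).symm
      _ ≤ Nat.card (P : Subgroup (ncen x)) := Subgroup.card_le_of_le hP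
      _ = Nat.card (Q : Subgroup (ncen x)) := by
          rw [P.card_eq_multiplicity, Q.card_eq_multiplicity]
      _ = Nat.card Q' := (card_map_of_injective (subtype_injective _)).symm
  obtain ⟨y, hyQ, hyn, hyT⟩ : ∃ y ∈ Q', y ∈ normalizer (T : Set G) ∧ y ∉ T := by
    have hnc : NormalizerCondition Q' := by
      haveI := hQ2.isNilpotent
      exact normalizerCondition_of_isNilpotent
    have hlt : T.subgroupOf Q' < ⊤ := by
      refine lt_top_iff_ne_top.mpr fun ht => ?_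
      rw [subgroupOf_eq_top] at ht
      exact absurd (Subgroup.card_le_of_le ht) (not_le.mpr hQlt)
    obtain ⟨y, hy, hyT⟩ := SetLike.exists_of_lt (hnc _ hlt)
    refine ⟨y, y.2, mem_normalizer_iff.mpr fun v => ⟨fun hv => ?_, fun hv => ?_⟩, hyT⟩
    · exact (mem_normalizer_iff.mp hy ⟨v, hTQ hv⟩).mp hv
    · have hvQ : v ∈ Q' := by
        have := mul_mem (mul_mem (inv_mem y.2) (hTQ hv)) y.2
        simpa [mul_assoc] using this
      exact (mem_normalizer_iff.mp hy ⟨v, hvQ⟩).mpr hv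
  -- `y` is outside `H₀`
  have hyM : y ∉ H₀ := by
    intro hy
    set T' := Q' ⊓ H₀ with hT'
    have hTT' : T < T' := lt_of_le_of_ne (le_inf hTQ (inf_le_left.trans B.hSM))
      fun h => hyT (h ▸ ⟨hyQ, hy⟩)
    obtain ⟨n, hn, hc⟩ := B.sylM.2.2 T' inf_le_right (hQ2.to_le inf_le_left)
    have hx'S : n * x * n⁻¹ ∈ S := hc x (hTT'.le hxT)
    have hx'f : σ (n * x * n⁻¹) ≠ n * x * n⁻¹ := fun hf => hg₁ (by
      have e2 : n * x * n⁻¹ = n * g₁ * e₁ * (n * g₁)⁻¹ := by rw [← hgx]; group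
      rw [e2] at hf hx'S
      simpa using mul_mem (inv_mem hn) (B.mem_of_fixed_image he₁ hne₁ hf (B.hSM hx'S)))
    have hle := hmax ⟨n * x * n⁻¹, hx'S, ⟨n * g₁, e₁, he₁, hne₁, by rw [← hgx]; group⟩, hx'f⟩
    have hlt : Nat.card T < Nat.card T' := lt_of_le_of_ne (Subgroup.card_le_of_le hTT'.le)
      fun h => hTT'.ne (eq_of_le_of_card_ge hTT'.le h.ge)
    have hge : Nat.card T' ≤ Nat.card ↥(S ⊓ ncen (n * x * n⁻¹)) :=
      Nat.card_le_card_of_injective
        (fun t : T' => (⟨n * t * n⁻¹, hc t t.2, H41.Shult.conj_mem_ncen (hQC t.2.1)⟩ :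
          ↥(S ⊓ ncen (n * x * n⁻¹))))
        fun a b e => Subtype.ext (by simpa using congrArg Subtype.val e)
    dsimp only at hle
    omega
  have hyconj : ∀ t ∈ T, y * t * y⁻¹ ∈ T := fun t ht => (mem_normalizer_iff.mp hyn t).mp ht
  -- subgroups of `T` with fixed squares have exponent two modulo the centre
  have hexp : ∀ O : Subgroup G, O ≤ T → (∀ t ∈ O, y * t * y⁻¹ ∈ O) →
      (∀ t ∈ O, σ (t * t) = t * t) → ∀ t ∈ O, t * t ∈ center G := by
    intro O hOT hOy hsq t ht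
    by_contra ht2
    obtain ⟨n, hn⟩ := B.cfg.pS ⟨t * t, mul_mem (hOT ht).1 (hOT ht).1⟩
    have hn' : (t * t) ^ 2 ^ n = 1 := by simpa using congrArg Subtype.val hn
    have hex' : ∃ j, (t * t) ^ 2 ^ j ∈ center G := ⟨n, hn' ▸ one_mem _⟩
    have h0 : Nat.find hex' ≠ 0 := fun h => ht2 (by simpa [h] using Nat.find_spec hex')
    obtain ⟨j, hj⟩ := Nat.exists_eq_succ_of_ne_zero h0
    obtain ⟨w, hw⟩ : ∃ w, w = (t * t) ^ 2 ^ j := ⟨_, rfl⟩
    have hwn : w ∉ center G := hw ▸ Nat.find_min hex' (by omega)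
    have hw2 : w * w ∈ center G := by
      have := Nat.find_spec hex'
      rw [hj, pow_succ, pow_mul, pow_two, ← hw] at this
      exact this
    have hwT : w ∈ T := hOT (hw ▸ pow_mem (mul_mem ht ht) _)
    have hσw : σ w = w := by rw [hw, map_pow, hsq t ht]
    obtain ⟨z, hz, hzw⟩ := A.hI w hwT.1 hσw hw2
    have hzn : z ∉ center G := fun h => hwn (by
      have := mul_mem h hzw
      rwa [mul_inv_cancel_left] at this)
    have hc' : w⁻¹ * z ∈ center G := by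
      have := inv_mem hzw
      rwa [mul_inv_rev, inv_inv] at this
    have e2 : y * z * y⁻¹ = y * w * y⁻¹ * (w⁻¹ * z) := by
      calc y * z * y⁻¹ = y * w * ((w⁻¹ * z) * y⁻¹) := by group
        _ = y * w * (y⁻¹ * (w⁻¹ * z)) := by rw [mem_center_iff.mp hc' y⁻¹]
        _ = _ := by group
    refine hyM (B.mem_of_fixed_image hz hzn ?_ ?_)
    · rw [e2, map_mul σ (y * w * y⁻¹), B.cfg.center_fix _ hc']
      congr 1
      rw [hw, ← conj_pow, show y * (t * t) * y⁻¹ = y * t * y⁻¹ * (y * t * y⁻¹) by group, map_pow,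
        hsq _ (hOy t ht)]
    · rw [e2]
      exact mul_mem (B.hSM (hyconj w hwT).1) (B.center_le hc')
  have hmemT : ∀ v : U, v ∈ cenOf B ⟨u, hu⟩ → (v : G) ∈ T := by
    intro v hv
    refine ⟨B.hUS v.2, H41.Shult.mem_ncen.mpr ?_⟩
    rw [hnc v v.2]
    rw [mem_cenOf, B.fd.cm_comm] at hv
    exact hv
  by_cases huX' : u ∈ X
  · -- `x` lies in the axis
    obtain ⟨q, hq, hqx⟩ := huX huX'
    have hXT : X ≤ T := fun a ha => hmemT ⟨a, A.leU ha⟩ (by
      rw [mem_cenOf, mem_cenZ]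
      exact A.comm u huX' a ha)
    set O := closure {t : G | t ∈ T ∧ t * t ∈ center G} with hO
    have hOT : O ≤ T := (closure_le _).mpr fun t ht => ht.1
    have hOy : ∀ t ∈ O, y * t * y⁻¹ ∈ O := by
      have hle : O.map (MulAut.conj y).toMonoidHom ≤ O := by
        rw [hO, MonoidHom.map_closure, closure_le]
        rintro _ ⟨t, ⟨ht, ht2⟩, rfl⟩
        refine subset_closure ⟨hyconj t ht, ?_⟩
        show y * t * y⁻¹ * (y * t * y⁻¹) ∈ center G
        rw [show y * t * y⁻¹ * (y * t * y⁻¹) = y * (t * t) * y⁻¹ by group]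
        exact (inferInstance : (center G).Normal).conj_mem _ ht2 y
      exact fun t ht => hle ⟨t, ht, rfl⟩
    let W : Subgroup G :=
      { carrier := {s | ∃ v ∈ U, ∃ c : G, σ c = c ∧ (∀ w ∈ U, c * w = w * c) ∧ s = v * c}
        one_mem' := ⟨1, one_mem U, 1, map_one σ, fun w _ => by simp, by simp⟩
        mul_mem' := by
          rintro _ _ ⟨v, hv, c, hc, hcU, rfl⟩ ⟨v', hv', c', hc', hcU', rfl⟩
          refine ⟨v * v', mul_mem hv hv', c * c', by rw [map_mul, hc, hc'], fun w hw => ?_, ?_⟩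
          · rw [mul_assoc, hcU' w hw, ← mul_assoc, hcU w hw, mul_assoc]
          · rw [show v * c * (v' * c') = v * (c * v') * c' by group, hcU v' hv']
            group
        inv_mem' := by
          rintro _ ⟨v, hv, c, hc, hcU, rfl⟩
          refine ⟨v⁻¹, inv_mem hv, c⁻¹, by rw [map_inv, hc], fun w hw => ?_, ?_⟩
          · exact (Commute.inv_left (hcU w hw)).eq
          · rw [mul_inv_rev]
            exact (Commute.inv_left (hcU _ (inv_mem hv))).eq }
    have hOW : O ≤ W := (closure_le _).mpr fun t ht => by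
      obtain ⟨v, hv, c, -, hc, hcU, hte, -⟩ := A.invol ht.1.1 ht.2
      exact ⟨v, hv, c, hc, hcU, hte⟩
    have hOexp := hexp O hOT hOy fun t ht => by
      obtain ⟨v, hv, c, hc, hcU, rfl⟩ := hOW ht
      rw [show v * c * (v * c) = v * (c * v) * c by group, hcU v hv,
        show v * (v * c) * c = v * v * (c * c) by group, map_mul, map_mul σ c, hc,
        B.fixZ (B.cfg.sqU v hv)]
    -- a member of the centraliser outside the axis
    obtain ⟨u₀, hu₀, hu₀X⟩ : ∃ v ∈ cenOf B ⟨u, hu⟩, (v : G) ∉ X := by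
      by_contra hc
      push Not at hc
      have hle : cenOf B ⟨u, hu⟩ ≤ X.subgroupOf U := fun v hv => hc v hv
      exact absurd (Subgroup.card_le_of_le hle) (not_le.mpr (cenOf_large A _))
    obtain ⟨q', hq', hz⟩ := A.surj (u₀ : G) u₀.2 hu₀X _ (B.cfg.sqU _ u₀.2)
    obtain ⟨w, hwd⟩ : ∃ w : U, w = ⟨q', A.leU hq'⟩ * u₀ := ⟨_, rfl⟩
    have hw2 : B.fd.sv w ∈ cenZ U Z := by
      rw [hwd, B.fd.sv_mul, B.fd.cm_comm u₀, mul_assoc]
      refine mul_mem (A.sq q' hq') ?_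
      rw [mem_cenZ, Subgroup.coe_mul, Subgroup.coe_mul]
      have hcz : q' * (u₀ : G) * q'⁻¹ * (u₀ : G)⁻¹ ∈ Z := B.cfg.comU q' (A.leU hq') _ u₀.2
      show (u₀ : G) * u₀ * (q' * u₀ * q'⁻¹ * (u₀ : G)⁻¹) ∈ center G
      rw [← B.cfg.cenU _ (B.hZU hcz) _ (B.cfg.sqU _ u₀.2)]
      exact hz
    have hwC : w ∈ cenOf B ⟨u, hu⟩ :=
      hwd ▸ mul_mem (A.comm u huX' q' hq' : (⟨q', A.leU hq'⟩ : U) ∈ cenOf B ⟨u, hu⟩) hu₀
    have hwO : (w : G) ∈ O := subset_closure ⟨hmemT w hwC, hw2⟩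
    have hwX : (w : G) ∈ X := A.perp w.2 fun a ha => by
      have haO : a ∈ O := subset_closure ⟨hXT ha, A.sq a ha⟩
      have h := hOexp _ (mul_mem hwO haO)
      have h1 : B.fd.sv (w * ⟨a, A.leU ha⟩) ∈ cenZ U Z := h
      rw [B.fd.sv_mul] at h1
      have ha2 : B.fd.sv (⟨a, A.leU ha⟩ : U) ∈ cenZ U Z := A.sq a ha
      have h2 := mul_mem (inv_mem (mul_mem hw2 ha2)) h1
      rw [inv_mul_cancel_left] at h2
      exact h2
    refine hu₀X ?_
    have := mul_mem (inv_mem hq') hwX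
    rw [hwd] at this
    simpa using this
  · -- `x` lies outside the axis
    have hsq : ∀ t ∈ T, σ (t * t) = t * t := by
      intro t ht
      obtain ⟨v, hv, c, hc, hσc, hte⟩ := H10.Shult.Rank.exists_US B.cfg ht.1
      have hcN : c ∈ normalizer (U : Set G) := B.cfg.S_le_normU hc
      have hb : c * u⁻¹ * c⁻¹ ∈ U := (mem_normalizer_iff.mp hcN _).mp (inv_mem hu)
      obtain ⟨κ, hκ⟩ : ∃ κ, κ = k * c * k⁻¹ * c⁻¹ := ⟨_, rfl⟩
      have hκb : κ * (c * u⁻¹ * c⁻¹) = c * u⁻¹ * c⁻¹ * κ := by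
        have h1 := hkU _ hb
        calc κ * (c * u⁻¹ * c⁻¹) = k * c * (k⁻¹ * u⁻¹) * c⁻¹ := by rw [hκ]; group
          _ = k * c * (u⁻¹ * k⁻¹) * c⁻¹ := by
              rw [(Commute.inv_left (hkU _ (inv_mem hu))).eq]
          _ = k * (c * u⁻¹ * c⁻¹) * (c * k⁻¹ * c⁻¹) := by group
          _ = c * u⁻¹ * c⁻¹ * k * (c * k⁻¹ * c⁻¹) := by rw [h1]
          _ = _ := by rw [hκ]; group
      have hκv : κ * v⁻¹ = v⁻¹ * κ := by
        have h1 : c⁻¹ * v⁻¹ * c ∈ U := by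
          have := (mem_normalizer_iff.mp (inv_mem hcN) _).mp (inv_mem hv)
          rwa [inv_inv] at this
        calc κ * v⁻¹ = k * c * (k⁻¹ * (c⁻¹ * v⁻¹ * c)) * c⁻¹ := by rw [hκ]; group
          _ = k * c * ((c⁻¹ * v⁻¹ * c) * k⁻¹) * c⁻¹ := by rw [(Commute.inv_left (hkU _ h1)).eq]
          _ = k * v⁻¹ * (c * k⁻¹ * c⁻¹) := by group
          _ = v⁻¹ * k * (c * k⁻¹ * c⁻¹) := by rw [hkU _ (inv_mem hv)]
          _ = _ := by rw [hκ]; group
      obtain ⟨a, ha⟩ : ∃ a, a = u * v * (c * u⁻¹ * c⁻¹) * v⁻¹ := ⟨_, rfl⟩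
      have haU : a ∈ U := ha ▸ mul_mem (mul_mem (mul_mem hu hv) hb) (inv_mem hv)
      have hd : a * κ ∈ center G := by
        have h1 := H41.Shult.mem_ncen.mp (H41.Shult.ncen_symm ht.2)
        have e1 : x * t * x⁻¹ * t⁻¹ = a * κ := by
          calc x * t * x⁻¹ * t⁻¹
              = u * (k * v) * c * k⁻¹ * u⁻¹ * c⁻¹ * v⁻¹ := by rw [hxe, hte]; group
            _ = u * v * (κ * (c * u⁻¹ * c⁻¹)) * v⁻¹ := by rw [hkU v hv, hκ]; group
            _ = u * v * (c * u⁻¹ * c⁻¹) * (κ * v⁻¹) := by rw [hκb]; group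
            _ = a * κ := by rw [hκv, ha]; group
        rwa [e1] at h1
      have haf : σ a = a := by
        have h1 := B.cfg.center_fix _ hd
        have h2 : σ κ = κ := by rw [hκ]; simp only [map_mul, map_inv, hσk, hσc]
        rw [map_mul, h2] at h1
        exact mul_right_cancel h1
      have hphi : U.normalizerMonoidHom ⟨c, hcN⟩ = 1 := by
        by_contra h1
        refine huX' (A.free _ (H41.Shult.mem_act.mpr ⟨c, hσc, hcN, fun v => rfl⟩) h1 ⟨u, hu⟩ ?_)
        show c * u * c⁻¹ * u⁻¹ ∈ Z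
        have h2 := B.cfg.comU _ (inv_mem hb) _ hv
        rw [inv_inv] at h2
        rw [show c * u * c⁻¹ * u⁻¹ =
          ((c * u⁻¹ * c⁻¹)⁻¹ * v * (c * u⁻¹ * c⁻¹) * v⁻¹) * a⁻¹ by rw [ha]; group]
        exact mul_mem h2 (inv_mem (B.cfg.mem_Z haU haf))
      have hcv : c * v = v * c := mul_inv_eq_iff_eq_mul.mp
        (congrArg (fun ψ : MulAut U => ((ψ ⟨v, hv⟩ : U) : G)) hphi)
      rw [hte, show v * c * (v * c) = v * (c * v) * c by group, hcv,
        show v * (v * c) * c = v * v * (c * c) by group, map_mul, map_mul σ c, hσc,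
        B.fixZ (B.cfg.sqU v hv)]
    have hTexp := hexp T le_rfl hyconj hsq
    refine absurd (H21.Shult.TwoGauss.card_le_of_sv_mem B.fd A.idxU (cenZ U Z)
      (two_le_index_cenZ B) A.rad (X := cenOf B ⟨u, hu⟩) (fun z hz => ?_)
      fun v hv => hTexp _ (hmemT v hv)) (not_le.mpr ?_)
    · show B.fd.cm _ z ∈ cenZ U Z
      rw [B.fd.cm_comm, B.fd.cm_of_mem hz]
      exact one_mem _
    · rw [← (card_bounds A).2.1]
      exact cenOf_large A _

/-- An element carrying a noncentral element of `Z` into `H₀` lies in `H₀`. -/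
theorem closed {g e : G} (he : e ∈ Z) (hne : e ∉ center G) (hg : g * e * g⁻¹ ∈ H₀) : g ∈ H₀ := by
  obtain ⟨n, hn, hc⟩ := B.sylM.2.2 (zpowers (g * e * g⁻¹)) (zpowers_le.mpr hg)
    (H41.Shult.isPGroup_zpowers_of_sq (by
      rw [show g * e * g⁻¹ * (g * e * g⁻¹) = g * (e * e) * g⁻¹ by group, B.cfg.sqZ e he]; group))
  have hS : n * g * e * (n * g)⁻¹ ∈ S := by
    have := hc _ (mem_zpowers _)
    simpa [mul_assoc] using this
  have h := B.mem_of_fixed_image he hne (image_fixed A he hne hS) (B.hSM hS)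
  simpa using mul_mem (inv_mem hn) h

end H89.Shult.Axis
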