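import Cfsg.Agent.H89.Shult.TwoLines

/-!
Shult's fixed point theorem, several radicals, radical `Z` for every character trivial on the
centre: closure of the noncentral elements of `Z` in the maximal invariant overgroup, given the two
counting facts on singular elements.
-/

set_option autoImplicit false
set_option linter.all false

open Subgroup
open H41.Shult (FormData OddCh restrict SInv act ncen IsSylTwo)

namespace H89.Shult

open H85.Shult (Top fixed disp Inv)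

variable {G : Type*} [Group G] [Finite G] {σ : MulAut G} {r m p : ℕ} {S U Z H₀ : Subgroup G}
  (B : H41.Shult.Two σ r m p S U Z H₀)
include B

/-- With an odd group of induced automorphisms, fixed elements of `S` centralise `U`. -/
theorem cent_of_fixed (hodd : Odd (Nat.card (act σ U))) {c : G} (hc : c ∈ S) (hσc : σ c = c)
    {u : G} (hu : u ∈ U) : c * u = u * c := by
  have hcN : c ∈ normalizer (U : Set G) := B.cfg.S_le_normU hc
  set φ := U.normalizerMonoidHom ⟨c, hcN⟩ with hφ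
  have hmem : φ ∈ act σ U := H41.Shult.mem_act.mpr ⟨c, hσc, hcN, fun v => rfl⟩
  obtain ⟨k, hk⟩ := B.cfg.pS ⟨c, hc⟩
  have hk' : c ^ 2 ^ k = 1 := by simpa using congrArg Subtype.val hk
  have h2 : orderOf φ ∣ 2 ^ k := orderOf_dvd_of_pow_eq_one (by
    rw [hφ, ← map_pow, show (⟨c, hcN⟩ : normalizer (U : Set G)) ^ 2 ^ k = 1 from
      Subtype.ext (by simpa using hk'), map_one])
  have h3 : orderOf φ ∣ Nat.card (act σ U) := by
    rw [← orderOf_mk φ hmem]
    exact orderOf_dvd_natCard _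
  have h1 : φ = 1 := orderOf_eq_one_iff.mp (Nat.eq_one_of_dvd_coprimes
    ((Nat.coprime_two_left.mpr hodd).pow_left k) h2 h3)
  have h4 : c * u * c⁻¹ = u := congrArg (fun f : MulAut U => ((f ⟨u, hu⟩ : U) : G)) h1
  rwa [mul_inv_eq_iff_eq_mul] at h4

/-- Elements of `H₀` carry `Z` into `S` only onto fixed elements. -/
theorem fixed_of_conj {g e : G} (hg : g ∈ H₀) (he : e ∈ Z) (hS : g * e * g⁻¹ ∈ S) :
    σ (g * e * g⁻¹) = g * e * g⁻¹ := by
  obtain ⟨K, hK⟩ := B.exists_core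
  have hU : g * e * g⁻¹ ∈ U := B.KS hK (B.KU_norm hK hg (mem_sup_right (B.hZU he))) hS
  obtain ⟨k, hk, u, hu, hku⟩ := B.exists_mul hK (B.mov_mem hK hg)
  have hσg : σ g = g * (k * u) := by rw [← hku]; group
  have e1 : (g * e * g⁻¹)⁻¹ * σ (g * e * g⁻¹) = g * (e⁻¹ * k * e * k⁻¹) * g⁻¹ := by
    rw [map_mul, map_mul, map_inv, hσg, B.fixZ he,
      show g * (k * u) * e * (g * (k * u))⁻¹ = g * k * (u * e) * u⁻¹ * k⁻¹ * g⁻¹ by group,
      B.cfg.cenU u hu e he]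
    group
  have hKg : (g * e * g⁻¹)⁻¹ * σ (g * e * g⁻¹) ∈ K := by
    rw [e1]
    refine (mem_normalizer_iff.mp (hK.norm hg) _).mp (mul_mem ?_ (inv_mem hk))
    have := (mem_normalizer_iff.mp (hK.norm (inv_mem (B.hZM he))) k).mp hk
    simpa using this
  exact (inv_mul_eq_one.mp (B.KS_one hK hKg
    (B.hUS (mul_mem (inv_mem hU) (B.cfg.invU _ hU))))).symm

variable (hodd : Odd (Nat.card (act σ U)))
  (hidx : (Z.subgroupOf U).index = 2 ^ (4 * m))
  (hrad : EvenRad B)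
  (hinv : ∀ x ∈ S, σ x = x → x * x ∈ center G → ∃ z ∈ Z, z⁻¹ * x ∈ center G)
  (hfix : ∀ v : U, (v : G) ∉ Z → ∃ φ ∈ act σ U, φ v * v⁻¹ ∉ Z.subgroupOf U)
  (hele : ∀ X : Subgroup U, Z.subgroupOf U ≤ X → (∀ x ∈ X, B.fd.sv x ∈ cenZ U Z) →
    Nat.card X ≤ 2 ^ (2 * m) * Nat.card (Z.subgroupOf U))
  (hcnt : Nat.card {u : U // B.fd.sv u ∈ cenZ U Z} * (cenZ U Z).index =
    Nat.card (Z.subgroupOf U) * (2 ^ (4 * m) + ((cenZ U Z).index - 1) * 2 ^ (2 * m)))
include hodd hidx hrad hinv hfix hele hcnt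

/-- An image of a noncentral element of `Z` lying in `S` is fixed. -/
theorem image_fixed {g e : G} (he : e ∈ Z) (hne : e ∉ center G) (hS : g * e * g⁻¹ ∈ S) :
    σ (g * e * g⁻¹) = g * e * g⁻¹ := by
  classical
  haveI : Fact (Nat.Prime 2) := ⟨Nat.prime_two⟩
  have hcent : ∀ {c u : G}, c ∈ S → σ c = c → u ∈ U → c * u = u * c :=
    fun {c u} hc hσc hu => cent_of_fixed B hodd hc hσc hu
  have hZc : ∀ {s z : G}, s ∈ S → z ∈ Z → s * z = z * s := by
    intro s z hs hz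
    obtain ⟨u, hu, a, ha, hσa, rfl⟩ := H10.Shult.Rank.exists_US B.cfg hs
    rw [mul_assoc, hcent ha hσa (B.hZU hz), ← mul_assoc, B.cfg.cenU u hu z hz, mul_assoc]
  have hsq : ∀ s ∈ S, σ (s * s) = s * s := by
    intro s hs
    obtain ⟨u, hu, a, ha, hσa, rfl⟩ := H10.Shult.Rank.exists_US B.cfg hs
    have e : u * a * (u * a) = u * u * (a * a) := by
      rw [show u * a * (u * a) = u * (a * u) * a by group, hcent ha hσa hu]
      group
    rw [e, map_mul, map_mul σ a, hσa, B.fixZ (B.cfg.sqU u hu)]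
  by_contra hbad
  let X := {x : G // x ∈ S ∧ (∃ g : G, ∃ e ∈ Z, e ∉ center G ∧ g * e * g⁻¹ = x) ∧ σ x ≠ x}
  haveI : Nonempty X := ⟨⟨_, hS, ⟨g, e, he, hne, rfl⟩, hbad⟩⟩
  obtain ⟨⟨x, hxS, ⟨g₁, e₁, he₁, hne₁, hgx⟩, hxf⟩, hmax⟩ :=
    Finite.exists_max fun x : X => Nat.card ↥(S ⊓ ncen (x : G))
  clear hS hbad he hne g e
  set T := S ⊓ ncen x with hT
  have hxT : x ∈ T := ⟨hxS, H41.Shult.self_mem_ncen x⟩
  have hx2 : x * x = 1 := by
    rw [← hgx, show g₁ * e₁ * g₁⁻¹ * (g₁ * e₁ * g₁⁻¹) = g₁ * (e₁ * e₁) * g₁⁻¹ by group,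
      B.cfg.sqZ e₁ he₁]
    group
  have hg₁ : g₁ ∉ H₀ := fun h => hxf (hgx ▸ fixed_of_conj B h he₁ (hgx ▸ hxS))
  obtain ⟨u₁, hu₁, a₁, ha₁, hσa₁, hxe⟩ := H10.Shult.Rank.exists_US B.cfg hxS
  -- `T` is not all of `S`
  have hTlt : Nat.card T < Nat.card S := by
    refine lt_of_le_of_ne (Subgroup.card_le_of_le inf_le_left) fun heq => hxf ?_
    have hTS : T = S := eq_of_le_of_card_ge inf_le_left heq.ge
    have huZ : u₁ ∈ Z := B.mem_Z_of_comm_center hu₁ fun v hv => by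
      have hvn : v ∈ T := hTS.symm ▸ B.hUS hv
      have h1 := H41.Shult.mem_ncen.mp (H41.Shult.ncen_symm hvn.2)
      rw [hxe, show u₁ * a₁ * v * (u₁ * a₁)⁻¹ * v⁻¹ = u₁ * (a₁ * v) * a₁⁻¹ * u₁⁻¹ * v⁻¹ by group,
        hcent ha₁ hσa₁ hv] at h1
      rwa [show u₁ * (v * a₁) * a₁⁻¹ * u₁⁻¹ * v⁻¹ = u₁ * v * u₁⁻¹ * v⁻¹ by group] at h1
    rw [hxe, map_mul, hσa₁, B.fixZ huZ]
  -- a 2-group of order at least `|S|` centralises `x`
  set P₀ := S.map (MulAut.conj g₁).toMonoidHom with hP₀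
  have hP₀C : P₀ ≤ ncen x := by
    rintro _ ⟨s, hs, rfl⟩
    show g₁ * s * g₁⁻¹ ∈ ncen x
    rw [← hgx]
    refine H41.Shult.conj_mem_ncen (H41.Shult.mem_ncen.mpr ?_)
    rw [hZc hs he₁, mul_inv_cancel_right, mul_inv_cancel]
    exact one_mem _
  obtain ⟨P, hP⟩ := ((B.cfg.pS.map (MulAut.conj g₁).toMonoidHom).of_equiv
    (subgroupOfEquivOfLe hP₀C).symm).exists_le_sylow
  obtain ⟨Q, hQ⟩ := ((B.cfg.pS.to_le (inf_le_left : T ≤ S)).of_equiv
    (subgroupOfEquivOfLe (inf_le_right : T ≤ ncen x)).symm).exists_le_sylow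
  set Q' := (Q : Subgroup (ncen x)).map (ncen x).subtype with hQ'
  have hTQ : T ≤ Q' := fun t ht => ⟨⟨t, ht.2⟩, hQ ht, rfl⟩
  have hQC : Q' ≤ ncen x := map_subtype_le _
  have hQ2 : IsPGroup 2 Q' := Q.2.map _
  have hQlt : Nat.card T < Nat.card Q' := by
    refine lt_of_lt_of_le hTlt ?_
    calc Nat.card S = Nat.card P₀ := (card_map_of_injective (MulAut.conj g₁).injective).symm
      _ = Nat.card (P₀.subgroupOf (ncen x)) :=
          (Nat.card_congr (subgroupOfEquivOfLe hP₀C).toEquiv).symm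
      _ ≤ Nat.card (P : Subgroup (ncen x)) := Subgroup.card_le_of_le hP
      _ = Nat.card (Q : Subgroup (ncen x)) := by
          rw [P.card_eq_multiplicity, Q.card_eq_multiplicity]
      _ = Nat.card Q' := (card_map_of_injective (subtype_injective _)).symm
  obtain ⟨y, hyQ, hyn, hyT⟩ : ∃ y ∈ Q', y ∈ normalizer (T : Set G) ∧ y ∉ T := by
    have hnc : NormalizerCondition Q' := by
      haveI := hQ2.isNilpotent
      exact normalizerCondition_of_isNilpotent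
    have hlt : T.subgroupOf Q' < ⊤ := by
      refine lt_top_iff_ne_top.mpr fun ht => ?_
      rw [subgroupOf_eq_top] at ht
      exact absurd (Subgroup.card_le_of_le ht) (not_le.mpr hQlt)
    obtain ⟨y, hy, hyT⟩ := SetLike.exists_of_lt (hnc _ hlt)
    refine ⟨y, y.2, mem_normalizer_iff.mpr fun v => ⟨fun hv => ?_, fun hv => ?_⟩, hyT⟩
    · exact (mem_normalizer_iff.mp hy ⟨v, hTQ hv⟩).mp hv
    · have hvQ : v ∈ Q' := by
        have := mul_mem (mul_mem (inv_mem y.2) (hTQ hv)) y.2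
        simpa [mul_assoc] using this
      exact (mem_normalizer_iff.mp hy ⟨v, hvQ⟩).mpr hv
  -- `y` is outside `H₀`
  have hyM : y ∉ H₀ := by
    intro hy
    set T' := Q' ⊓ H₀ with hT'
    have hTT' : T < T' := lt_of_le_of_ne (le_inf hTQ (inf_le_left.trans B.hSM))
      fun h => hyT (h ▸ ⟨hyQ, hy⟩)
    obtain ⟨n, hn, hc⟩ := B.sylM.2.2 T' inf_le_right (hQ2.to_le inf_le_left)
    have hx'S : n * x * n⁻¹ ∈ S := hc x (hTT'.le hxT)
    have hx'f : σ (n * x * n⁻¹) ≠ n * x * n⁻¹ := fun hf => hg₁ (by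
      have e2 : n * x * n⁻¹ = n * g₁ * e₁ * (n * g₁)⁻¹ := by rw [← hgx]; group
      rw [e2] at hf hx'S
      simpa using mul_mem (inv_mem hn) (B.mem_of_fixed_image he₁ hne₁ hf (B.hSM hx'S)))
    have hle := hmax ⟨n * x * n⁻¹, hx'S, ⟨n * g₁, e₁, he₁, hne₁, by rw [← hgx]; group⟩, hx'f⟩
    have hlt : Nat.card T < Nat.card T' := lt_of_le_of_ne (Subgroup.card_le_of_le hTT'.le)
      fun h => hTT'.ne (eq_of_le_of_card_ge hTT'.le h.ge)
    have hge : Nat.card T' ≤ Nat.card ↥(S ⊓ ncen (n * x * n⁻¹)) :=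
      Nat.card_le_card_of_injective
        (fun t : T' => (⟨n * t * n⁻¹, hc t t.2, H41.Shult.conj_mem_ncen (hQC t.2.1)⟩ :
          ↥(S ⊓ ncen (n * x * n⁻¹))))
        fun a b e => Subtype.ext (by simpa using congrArg Subtype.val e)
    dsimp only at hle
    omega
  have hyconj : ∀ t ∈ T, y * t * y⁻¹ ∈ T := fun t ht => (mem_normalizer_iff.mp hyn t).mp ht
  have hZT : Z ≤ T := fun z hz => ⟨B.hZS hz, H41.Shult.ncen_symm (H41.Shult.mem_ncen.mpr (by
    rw [hZc hxS hz, mul_inv_cancel_right, mul_inv_cancel]; exact one_mem _))⟩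
  -- `T` has exponent two modulo the centre
  have hexp : ∀ t ∈ T, t * t ∈ center G := by
    intro t ht
    by_contra ht2
    obtain ⟨k, hk⟩ := B.cfg.pS ⟨t * t, mul_mem ht.1 ht.1⟩
    have hk' : (t * t) ^ 2 ^ k = 1 := by simpa using congrArg Subtype.val hk
    have hex' : ∃ j, (t * t) ^ 2 ^ j ∈ center G := ⟨k, hk' ▸ one_mem _⟩
    have h0 : Nat.find hex' ≠ 0 := fun h => ht2 (by simpa [h] using Nat.find_spec hex')
    obtain ⟨j, hj⟩ := Nat.exists_eq_succ_of_ne_zero h0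
    obtain ⟨w, hw⟩ : ∃ w, w = (t * t) ^ 2 ^ j := ⟨_, rfl⟩
    have hwn : w ∉ center G := hw ▸ Nat.find_min hex' (by omega)
    have hw2 : w * w ∈ center G := by
      have := Nat.find_spec hex'
      rw [hj, pow_succ, pow_mul, pow_two, ← hw] at this
      exact this
    have hwT : w ∈ T := hw ▸ pow_mem (mul_mem ht ht) _
    have hσw : σ w = w := by rw [hw, map_pow, hsq t ht.1]
    obtain ⟨z, hz, hzw⟩ := hinv w hwT.1 hσw hw2
    have hzn : z ∉ center G := fun h => hwn (by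
      have := mul_mem h hzw
      rwa [mul_inv_cancel_left] at this)
    have hc' : w⁻¹ * z ∈ center G := by
      have := inv_mem hzw
      rwa [mul_inv_rev, inv_inv] at this
    have e2 : y * z * y⁻¹ = y * w * y⁻¹ * (w⁻¹ * z) := by
      calc y * z * y⁻¹ = y * w * ((w⁻¹ * z) * y⁻¹) := by group
        _ = y * w * (y⁻¹ * (w⁻¹ * z)) := by rw [mem_center_iff.mp hc' y⁻¹]
        _ = _ := by group
    refine hyM (B.mem_of_fixed_image hz hzn ?_ ?_)
    · rw [e2, map_mul σ (y * w * y⁻¹), B.cfg.center_fix _ hc']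
      congr 1
      rw [hw, ← conj_pow, show y * (t * t) * y⁻¹ = y * t * y⁻¹ * (y * t * y⁻¹) by group, map_pow,
        hsq _ (hyconj t ht).1]
    · rw [e2]
      exact mul_mem (B.hSM (hyconj w hwT).1) (B.center_le hc')
  -- `T` lies in `U` times the centre
  have ha₁x : a₁ * x = x * a₁ := by
    rw [hxe, ← mul_assoc, hcent ha₁ hσa₁ hu₁]
  have ha₁T : a₁ ∈ T := ⟨ha₁, H41.Shult.mem_ncen.mpr (by
    rw [ha₁x, mul_inv_cancel_right, mul_inv_cancel]; exact one_mem _)⟩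
  obtain ⟨z₁, hz₁, hza₁⟩ := hinv a₁ ha₁ hσa₁ (hexp a₁ ha₁T)
  obtain ⟨u', hu'd⟩ : ∃ u', u' = u₁ * z₁ := ⟨_, rfl⟩
  have hu' : u' ∈ U := hu'd ▸ mul_mem hu₁ (B.hZU hz₁)
  have hxu : u'⁻¹ * x ∈ center G := by
    rw [hu'd, hxe, show (u₁ * z₁)⁻¹ * (u₁ * a₁) = z₁⁻¹ * a₁ by group]
    exact hza₁
  have hTU : ∀ t ∈ T, ∃ v ∈ U, v⁻¹ * t ∈ center G := by
    intro t ht
    obtain ⟨u, hu, a, ha, hσa, hte⟩ := H10.Shult.Rank.exists_US B.cfg ht.1
    have hax : a * x = x * a := by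
      calc a * x = a * u' * (u'⁻¹ * x) := by group
        _ = u' * a * (u'⁻¹ * x) := by rw [hcent ha hσa hu']
        _ = u' * (a * (u'⁻¹ * x)) := by group
        _ = u' * ((u'⁻¹ * x) * a) := by rw [mem_center_iff.mp hxu a]
        _ = x * a := by group
    have haT : a ∈ T := ⟨ha, H41.Shult.mem_ncen.mpr (by
      rw [hax, mul_inv_cancel_right, mul_inv_cancel]; exact one_mem _)⟩
    obtain ⟨z, hz, hza⟩ := hinv a ha hσa (hexp a haT)
    refine ⟨u * z, mul_mem hu (B.hZU hz), ?_⟩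
    rw [hte, show (u * z)⁻¹ * (u * a) = z⁻¹ * a by group]
    exact hza
  -- the singular subgroup
  set V := cenOf B ⟨u', hu'⟩ with hV
  have hVT : ∀ v : U, v ∈ V ↔ (v : G) ∈ T := by
    intro v
    rw [hV, cenOf_eq, mem_subgroupOf]
    have hnc : ncen x = ncen u' := by
      ext h
      rw [H41.Shult.mem_ncen, H41.Shult.mem_ncen]
      have e3 : h * x * h⁻¹ * x⁻¹ = h * u' * h⁻¹ * u'⁻¹ := by
        calc h * x * h⁻¹ * x⁻¹
            = h * u' * ((u'⁻¹ * x) * h⁻¹) * (u'⁻¹ * x)⁻¹ * u'⁻¹ := by group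
          _ = h * u' * (h⁻¹ * (u'⁻¹ * x)) * (u'⁻¹ * x)⁻¹ * u'⁻¹ := by
              rw [mem_center_iff.mp hxu h⁻¹]
          _ = _ := by group
      rw [e3]
    exact ⟨fun h => ⟨B.hUS v.2, hnc ▸ h⟩, fun h => hnc ▸ h.2⟩
  have hVZ : Z.subgroupOf U ≤ V := fun v hv => (hVT v).mpr (hZT hv)
  have hVs : ∀ v ∈ V, B.fd.sv v ∈ cenZ U Z := fun v hv => hexp _ ((hVT v).mp hv)
  -- `|Z| N` elements
  have hrep : ∀ b : Z.subgroupOf U, ∃ v : U, v ∈ V ∧
      (v : G)⁻¹ * (y * ((b : U) : G) * y⁻¹) ∈ center G := by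
    intro b
    have hbT := hyconj _ (hZT b.2)
    obtain ⟨v, hv, hvc⟩ := hTU _ hbT
    refine ⟨⟨v, hv⟩, (hVT _).mpr ⟨B.hUS hv, ?_⟩, hvc⟩
    have := (ncen x).mul_mem hbT.2 ((ncen x).inv_mem (H41.Shult.center_le_ncen x hvc))
    rwa [show ∀ a : G, a * (v⁻¹ * a)⁻¹ = v from fun a => by group] at this
  choose f hfV hfc using hrep
  have hlow : Nat.card (Z.subgroupOf U) * (cenZ U Z).index ≤ Nat.card V := by
    rw [index, ← Nat.card_prod]
    refine Nat.card_le_card_of_injective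
      (fun q : (Z.subgroupOf U) × ((Z.subgroupOf U) ⧸ cenZ U Z) =>
        (⟨(q.1 : U) * f q.2.out, mul_mem (hVZ q.1.2) (hfV _)⟩ : V)) ?_
    rintro ⟨a, q⟩ ⟨a', q'⟩ hab
    have h1 : (a : U) * f q.out = a' * f q'.out := congrArg Subtype.val hab
    have hq : q = q' := by
      rw [← q.out_eq', ← q'.out_eq']
      refine QuotientGroup.eq.mpr ?_
      by_contra hnc
      refine hyM (B.mem_of_fixed_image (e := ((((q.out)⁻¹ * q'.out : Z.subgroupOf U) : U) : G))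
        ((q.out)⁻¹ * q'.out).2 hnc ?_ ?_)
      all_goals
        obtain ⟨w, hw, hwe⟩ : ∃ w, w ∈ Z ∧ (f q.out : G)⁻¹ * (f q'.out : G) = w := by
          refine ⟨_, ?_, rfl⟩
          have h3 : (f q.out)⁻¹ * f q'.out = (f q'.out)⁻¹ * (((a' : U))⁻¹ * a) * f q'.out := by
            have h1' : f q.out = (a : U)⁻¹ * ((a' : U) * f q'.out) := by rw [← h1]; group
            rw [h1']; group
          have h4 : ((f q.out)⁻¹ * f q'.out : U) ∈ Z.subgroupOf U := by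
            rw [h3, mul_assoc, ← B.fd.cen _ (mul_mem (inv_mem a'.2) a.2) (f q'.out),
              inv_mul_cancel_left]
            exact mul_mem (inv_mem a'.2) a.2
          exact h4
        obtain ⟨c, hc, hce⟩ : ∃ c, c ∈ center G ∧
            (f q.out : G)⁻¹ * (y * ((q.out : U) : G) * y⁻¹) = c := ⟨_, hfc _, rfl⟩
        obtain ⟨c', hc', hce'⟩ : ∃ c, c ∈ center G ∧
            (f q'.out : G)⁻¹ * (y * ((q'.out : U) : G) * y⁻¹) = c := ⟨_, hfc _, rfl⟩
        have e3 : y * ((((q.out)⁻¹ * q'.out : Z.subgroupOf U) : U) : G) * y⁻¹ = w * (c⁻¹ * c') := by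
          rw [Subgroup.coe_mul, Subgroup.coe_inv, Subgroup.coe_mul, Subgroup.coe_inv]
          calc y * (((q.out : U) : G)⁻¹ * ((q'.out : U) : G)) * y⁻¹
              = (y * ((q.out : U) : G) * y⁻¹)⁻¹ * (y * ((q'.out : U) : G) * y⁻¹) := by group
            _ = c⁻¹ * ((f q.out : G)⁻¹ * (f q'.out : G)) * c' := by rw [← hce, ← hce']; group
            _ = c⁻¹ * w * c' := by rw [hwe]
            _ = w * (c⁻¹ * c') := by rw [← mem_center_iff.mp (inv_mem hc) w, mul_assoc]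
        rw [e3]
      · rw [map_mul, B.fixZ hw, B.cfg.center_fix _ (mul_mem (inv_mem hc) hc')]
      · exact mul_mem (B.hZM hw) (B.center_le (mul_mem (inv_mem hc) hc'))
    subst hq
    exact Prod.ext (Subtype.ext (mul_right_cancel h1)) rfl
  have hup := card_le_mul_cenOf B ⟨u', hu'⟩
  have hub := hele V hVZ hVs
  -- equality
  have hU := (Z.subgroupOf U).card_mul_index
  rw [hidx, show 4 * m = 2 * m + 2 * m by ring, pow_add] at hU
  have hz : 0 < Nat.card (Z.subgroupOf U) := Nat.card_pos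
  have hP : 2 ≤ 2 ^ (2 * m) := Nat.le_self_pow (by have := B.cfg.m_pos; omega) 2
  have hN1 : (cenZ U Z).index ≤ 2 ^ (2 * m) :=
    Nat.le_of_mul_le_mul_left (by rw [mul_comm _ (2 ^ (2 * m))]; exact hlow.trans hub) hz
  have hN2 : 2 ^ (2 * m) ≤ (cenZ U Z).index := by
    suffices h : 2 ^ (2 * m) * Nat.card (Z.subgroupOf U) * 2 ^ (2 * m) ≤
        2 ^ (2 * m) * Nat.card (Z.subgroupOf U) * (cenZ U Z).index from
      Nat.le_of_mul_le_mul_left h (Nat.mul_pos (lt_of_lt_of_le two_pos hP) hz)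
    calc 2 ^ (2 * m) * Nat.card (Z.subgroupOf U) * 2 ^ (2 * m) = Nat.card U := by rw [← hU]; ring
      _ ≤ Nat.card V * (cenZ U Z).index := hup
      _ ≤ _ := Nat.mul_le_mul_right _ hub
  have hN : (cenZ U Z).index = 2 ^ (2 * m) := le_antisymm hN1 hN2
  have hline : Line B V := ⟨hVZ, hVs, le_antisymm hub (by rw [mul_comm, ← hN]; exact hlow)⟩
  have hu'V : (⟨u', hu'⟩ : U) ∈ V := by
    show B.fd.cm _ _ ∈ cenZ U Z
    rw [B.fd.cm_self]; exact one_mem _
  have hu'Z : u' ∉ Z := fun h => hxf (by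
    rw [show x = u' * (u'⁻¹ * x) by group, map_mul, B.fixZ h, B.cfg.center_fix _ hxu])
  obtain ⟨φ, hφ, hφu⟩ := hfix ⟨u', hu'⟩ hu'Z
  exact hφu (line_fixed B hrad hidx hN hcnt hline hodd φ hφ _ hu'V)

/-- An element carrying a noncentral element of `Z` into `H₀` lies in `H₀`. -/
theorem mem_of_conj_of_count {g e : G} (he : e ∈ Z) (hne : e ∉ center G) (hg : g * e * g⁻¹ ∈ H₀) :
    g ∈ H₀ := by
  obtain ⟨n, hn, hc⟩ := B.sylM.2.2 (zpowers (g * e * g⁻¹)) (zpowers_le.mpr hg)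
    (H41.Shult.isPGroup_zpowers_of_sq (by
      rw [show g * e * g⁻¹ * (g * e * g⁻¹) = g * (e * e) * g⁻¹ by group, B.cfg.sqZ e he]; group))
  have hS : n * g * e * (n * g)⁻¹ ∈ S := by
    have := hc _ (mem_zpowers _)
    simpa [mul_assoc] using this
  have h := B.mem_of_fixed_image he hne
    (image_fixed B hodd hidx hrad hinv hfix hele hcnt he hne hS) (B.hSM hS)
  simpa using mul_mem (inv_mem hn) h

end H89.Shult
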