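import Cfsg.Agent.H41.Shult.TwoClosed

/-!
Shult's fixed point theorem, several radicals: maximal singular subgroups of `U` modulo `Z` when
every character of `Z` trivial on the centre has radical `Z`. There are at most two of them, so the
automorphism `σ` and every induced automorphism of odd order fix each of them and centralise it
modulo `Z`.
-/

set_option autoImplicit false
set_option linter.all false

open Subgroup
open H41.Shult (FormData OddCh restrict SInv act)

namespace H89.Shult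

noncomputable section

variable {G : Type*} [Group G]

/-- The central part of `Z` inside `U`. -/
def cenZ (U Z : Subgroup G) : Subgroup (Z.subgroupOf U) :=
  ((center G).subgroupOf U).subgroupOf (Z.subgroupOf U)

theorem mem_cenZ {U Z : Subgroup G} {z : Z.subgroupOf U} :
    z ∈ cenZ U Z ↔ ((z : U) : G) ∈ center G := Iff.rfl

instance cenZ_normal (U Z : Subgroup G) : (cenZ U Z).Normal where
  conj_mem := fun n hn g => by
    rw [mem_cenZ] at hn ⊢
    simp only [Subgroup.coe_mul, Subgroup.coe_inv]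
    exact (inferInstance : (center G).Normal).conj_mem _ hn _

/-- An elementary abelian group is separated from its subgroups by sign characters. -/
theorem exists_char_killing {A : Type*} [Group A] [Finite A] (h2 : ∀ a : A, a * a = 1)
    (H : Subgroup A) {a : A} (ha : a ∉ H) :
    ∃ χ : A →* ℤˣ, (∀ h ∈ H, χ h = 1) ∧ χ a ≠ 1 := by
  have hinv : ∀ x : A, x⁻¹ = x := fun x => inv_eq_of_mul_eq_one_right (h2 x)
  letI : CommGroup A :=
    { (inferInstance : Group A) with
      mul_comm := fun x y => by rw [← hinv (x * y), mul_inv_rev, hinv, hinv] }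
  have hexp : Monoid.exponent (A ⧸ H) ∣ 2 := Monoid.exponent_dvd_of_forall_pow_eq_one fun q => by
    obtain ⟨x, rfl⟩ := QuotientGroup.mk_surjective q
    rw [pow_two, ← QuotientGroup.mk_mul, h2, QuotientGroup.mk_one]
  haveI : HasEnoughRootsOfUnity ℤ 2 :=
    ⟨⟨-1, by
      rw [IsPrimitiveRoot.iff_def]
      refine ⟨by norm_num, fun l hl => ?_⟩
      rcases Nat.even_or_odd l with he | ho
      · exact even_iff_two_dvd.mp he
      · rw [ho.neg_one_pow] at hl; omega⟩, inferInstance⟩
  haveI : HasEnoughRootsOfUnity ℤ (Monoid.exponent (A ⧸ H)) :=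
    HasEnoughRootsOfUnity.of_dvd ℤ hexp
  obtain ⟨χ, hχ⟩ := CommGroup.exists_apply_ne_one_of_hasEnoughRootsOfUnity (A ⧸ H) ℤ
    (a := QuotientGroup.mk a) (fun h => ha ((QuotientGroup.eq_one_iff a).mp h))
  exact ⟨χ.comp (QuotientGroup.mk' H), fun h hh => by
    rw [MonoidHom.comp_apply, QuotientGroup.mk'_apply, (QuotientGroup.eq_one_iff h).mpr hh,
      map_one], hχ⟩

open H85.Shult (Top fixed disp Inv)

variable [Finite G] {σ : MulAut G} {r m p : ℕ} {S U Z H₀ : Subgroup G}

/-- The hypothesis: characters of `Z` trivial on the centre have radical `Z`. -/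
def EvenRad (B : H41.Shult.Two σ r m p S U Z H₀) : Prop :=
  ∀ χ : (Z.subgroupOf U) →* ℤˣ, χ ≠ 1 →
    (∀ z : Z.subgroupOf U, ((z : U) : G) ∈ center G → χ z = 1) → B.fd.rad χ = Z.subgroupOf U

variable (B : H41.Shult.Two σ r m p S U Z H₀)

/-- The elements of `U` commuting with `t` modulo the centre. -/
def cenOf (B : H41.Shult.Two σ r m p S U Z H₀) (t : U) : Subgroup U where
  carrier := {v | B.fd.cm t v ∈ cenZ U Z}
  one_mem' := by
    show B.fd.cm t 1 ∈ cenZ U Z
    rw [B.fd.cm_comm, B.fd.cm_of_mem (one_mem _)]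
    exact one_mem _
  mul_mem' := fun {a b} ha hb => by
    show B.fd.cm t (a * b) ∈ cenZ U Z
    rw [B.fd.cm_mul_right]
    exact mul_mem ha hb
  inv_mem' := fun {a} ha => by
    show B.fd.cm t a⁻¹ ∈ cenZ U Z
    have h := B.fd.cm_mul_right t a a⁻¹
    rw [mul_inv_cancel, B.fd.cm_comm t 1, B.fd.cm_of_mem (one_mem _)] at h
    rw [eq_inv_of_mul_eq_one_right h.symm]
    exact inv_mem ha

theorem mem_cenOf {t v : U} : v ∈ cenOf B t ↔ B.fd.cm t v ∈ cenZ U Z := Iff.rfl

theorem cenOf_eq (t : U) : cenOf B t = (H41.Shult.ncen (t : G)).subgroupOf U := by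
  ext v
  rw [mem_cenOf, B.fd.cm_comm, mem_subgroupOf, H41.Shult.mem_ncen, mem_cenZ]
  rfl

include B

/-- The commutator map with `t` modulo the centre. -/
def cmMap (B : H41.Shult.Two σ r m p S U Z H₀) (t : U) :
    U →* (Z.subgroupOf U) ⧸ cenZ U Z :=
  (QuotientGroup.mk' (cenZ U Z)).comp
    { toFun := fun v => B.fd.cm t v
      map_one' := by rw [B.fd.cm_comm, B.fd.cm_of_mem (one_mem _)]
      map_mul' := fun a b => B.fd.cm_mul_right t a b }

theorem ker_cmMap (t : U) : (cmMap B t).ker = cenOf B t := by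
  ext v
  exact QuotientGroup.eq_one_iff (B.fd.cm t v)

theorem card_le_mul_cenOf (t : U) :
    Nat.card U ≤ Nat.card (cenOf B t) * (cenZ U Z).index := by
  rw [← (cenOf B t).card_mul_index]
  refine Nat.mul_le_mul_left _ ?_
  rw [← ker_cmMap, index_ker]
  exact Finite.card_subtype_le _

/-- Outside `Z` the commutator map is onto. -/
theorem index_cenOf (hrad : EvenRad B) {t : U} (ht : t ∉ Z.subgroupOf U) :
    (cenOf B t).index = (cenZ U Z).index := by
  rw [← ker_cmMap, index_ker]
  suffices h : (cmMap B t).range = ⊤ by rw [h, card_top]; rfl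
  by_contra hne
  obtain ⟨q, hq⟩ : ∃ q, q ∉ (cmMap B t).range := by
    by_contra hc
    push Not at hc
    exact hne (eq_top_iff.mpr fun q _ => hc q)
  obtain ⟨a, rfl⟩ := QuotientGroup.mk_surjective q
  obtain ⟨χ, hχ, hχa⟩ := exists_char_killing
    (A := Z.subgroupOf U) (fun z => Subtype.ext (B.fd.sqZ z z.2))
    ((cmMap B t).range.comap (QuotientGroup.mk' (cenZ U Z))) (a := a) hq
  refine ht ?_
  rw [← hrad χ (fun e => hχa (by rw [e]; rfl)) fun z hz => hχ z ?_]
  · exact fun v => hχ _ ⟨v, rfl⟩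
  · show QuotientGroup.mk' (cenZ U Z) z ∈ (cmMap B t).range
    rw [QuotientGroup.mk'_apply, (QuotientGroup.eq_one_iff z).mpr hz]
    exact one_mem _

/-- A maximal singular subgroup modulo `Z`. -/
def Line (B : H41.Shult.Two σ r m p S U Z H₀) (X : Subgroup U) : Prop :=
  Z.subgroupOf U ≤ X ∧ (∀ v ∈ X, B.fd.sv v ∈ cenZ U Z) ∧
    Nat.card X = 2 ^ (2 * m) * Nat.card (Z.subgroupOf U)

theorem line_comm {X : Subgroup U} (hX : Line B X) {a b : U} (ha : a ∈ X) (hb : b ∈ X) :
    B.fd.cm a b ∈ cenZ U Z := by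
  have h := hX.2.1 _ (mul_mem hb ha)
  rw [B.fd.sv_mul] at h
  have h2 := mul_mem (inv_mem (mul_mem (hX.2.1 b hb) (hX.2.1 a ha))) h
  rwa [inv_mul_cancel_left] at h2

section Count

variable (hrad : EvenRad B) (hidx : (Z.subgroupOf U).index = 2 ^ (4 * m))
  (hN : (cenZ U Z).index = 2 ^ (2 * m))
include hrad hidx hN

/-- A maximal singular subgroup is the centraliser modulo the centre of each member outside `Z`. -/
theorem line_cent {X : Subgroup U} (hX : Line B X) {t : U} (ht : t ∈ X)
    (htZ : t ∉ Z.subgroupOf U) : cenOf B t = X := by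
  have hle : X ≤ cenOf B t := fun v hv => line_comm B hX ht hv
  refine (eq_of_le_of_card_ge hle ?_).symm
  have h1 := (cenOf B t).card_mul_index
  have h2 := (Z.subgroupOf U).card_mul_index
  rw [index_cenOf B hrad htZ, hN] at h1
  rw [hidx] at h2
  rw [hX.2.2]
  refine le_of_eq (Nat.eq_of_mul_eq_mul_right (show 0 < 2 ^ (2 * m) by positivity) ?_)
  rw [h1, ← h2, show 4 * m = 2 * m + 2 * m by ring, pow_add]
  ring

theorem line_inter {X Y : Subgroup U} (hX : Line B X) (hY : Line B Y) (hne : X ≠ Y) :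
    X ⊓ Y = Z.subgroupOf U := by
  refine le_antisymm (fun t ht => ?_) (le_inf hX.1 hY.1)
  by_contra htZ
  exact hne ((line_cent B hrad hidx hN hX ht.1 htZ).symm.trans
    (line_cent B hrad hidx hN hY ht.2 htZ))

variable (hcnt : Nat.card {u : U // B.fd.sv u ∈ cenZ U Z} * (cenZ U Z).index =
    Nat.card (Z.subgroupOf U) * (2 ^ (4 * m) + ((cenZ U Z).index - 1) * 2 ^ (2 * m)))
include hcnt

/-- There are no three maximal singular subgroups. -/
theorem three {X Y W : Subgroup U} (hX : Line B X) (hY : Line B Y) (hW : Line B W)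
    (hXY : X ≠ Y) (hXW : X ≠ W) (hYW : Y ≠ W) : False := by
  classical
  haveI : Fintype U := Fintype.ofFinite U
  set fX := (X : Set U).toFinset with hfX
  set fY := (Y : Set U).toFinset with hfY
  set fW := (W : Set U).toFinset with hfW
  set fZ := ((Z.subgroupOf U : Subgroup U) : Set U).toFinset with hfZ
  have hc : ∀ H : Subgroup U, ((H : Set U).toFinset).card = Nat.card H := fun H => by
    rw [Set.toFinset_card, Nat.card_eq_fintype_card]; rfl
  have hI : ∀ {P Q : Subgroup U}, P ⊓ Q = Z.subgroupOf U →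
      (P : Set U).toFinset ∩ (Q : Set U).toFinset = fZ := fun {P Q} h => by
    ext u
    simp only [hfZ, Finset.mem_inter, Set.mem_toFinset, SetLike.mem_coe]
    rw [← h, mem_inf]
  have h1 : (fX ∪ fY) ∩ fW = fZ := by
    rw [Finset.union_inter_distrib_right, hI (line_inter B hrad hidx hN hX hW hXW),
      hI (line_inter B hrad hidx hN hY hW hYW), Finset.union_self]
  have h2 := Finset.card_union_add_card_inter fX fY
  have h3 := Finset.card_union_add_card_inter (fX ∪ fY) fW
  rw [hI (line_inter B hrad hidx hN hX hY hXY), hc, hc, hc] at h2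
  rw [h1, hc, hc] at h3
  rw [hX.2.2, hY.2.2] at h2
  rw [hW.2.2] at h3
  have hsub : fX ∪ fY ∪ fW ⊆ Finset.univ.filter fun u : U => B.fd.sv u ∈ cenZ U Z := by
    intro u hu
    simp only [Finset.mem_union, hfX, hfY, hfW, Set.mem_toFinset, SetLike.mem_coe] at hu
    refine Finset.mem_filter.mpr ⟨Finset.mem_univ u, ?_⟩
    rcases hu with (hu | hu) | hu
    exacts [hX.2.1 u hu, hY.2.1 u hu, hW.2.1 u hu]
  have h4 : (fX ∪ fY ∪ fW).card ≤ Nat.card {u : U // B.fd.sv u ∈ cenZ U Z} := by
    rw [Nat.card_eq_fintype_card, Fintype.card_subtype]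
    exact Finset.card_le_card hsub
  rw [hN] at hcnt
  have hz : 0 < Nat.card (Z.subgroupOf U) := Nat.card_pos
  have hP : 2 ≤ 2 ^ (2 * m) := Nat.le_self_pow (by have := B.cfg.m_pos; omega) 2
  rw [show 4 * m = 2 * m + 2 * m by ring, pow_add] at hcnt
  generalize 2 ^ (2 * m) = P at *
  generalize Nat.card (Z.subgroupOf U) = z at *
  generalize Nat.card {u : U // B.fd.sv u ∈ cenZ U Z} = s at *
  generalize (fX ∪ fY).card = c₁ at *
  generalize (fX ∪ fY ∪ fW).card = c₂ at *
  obtain ⟨Q, rfl⟩ : ∃ Q, P = Q + 2 := ⟨P - 2, by omega⟩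
  rw [show Q + 2 - 1 = Q + 1 by omega] at hcnt
  have hs : s = z * (2 * Q + 3) := by
    refine Nat.eq_of_mul_eq_mul_right (show 0 < Q + 2 by omega) ?_
    rw [hcnt]; ring
  nlinarith

/-- An automorphism of odd order respecting the data fixes every maximal singular subgroup. -/
theorem map_line {X : Subgroup U} (hX : Line B X) {ψ : MulAut U} (hodd : Odd (orderOf ψ))
    (hψZ : ∀ z ∈ Z.subgroupOf U, ψ z ∈ Z.subgroupOf U)
    (hψc : ∀ u : U, (u : G) ∈ center G → (ψ u : G) ∈ center G) :
    X.map ψ.toMonoidHom = X := by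
  have hZ : (Z.subgroupOf U).map ψ.toMonoidHom = Z.subgroupOf U := by
    refine eq_of_le_of_card_ge ?_ (card_map_of_injective ψ.injective).ge
    rintro _ ⟨z, hz, rfl⟩
    exact hψZ z hz
  have hmap : ∀ {Y : Subgroup U}, Line B Y → Line B (Y.map ψ.toMonoidHom) := by
    intro Y hY
    refine ⟨hZ.ge.trans (map_mono hY.1), ?_, (card_map_of_injective ψ.injective).trans hY.2.2⟩
    rintro _ ⟨v, hv, rfl⟩
    show ((ψ v * ψ v : U) : G) ∈ center G
    rw [← map_mul]
    exact hψc _ (hY.2.1 v hv)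
  by_contra h1
  set X₁ := X.map ψ.toMonoidHom with hX₁
  by_cases h2 : X₁.map ψ.toMonoidHom = X
  · refine h1 ?_
    have hk : ∀ k : ℕ, X.map (ψ ^ (2 * k) : MulAut U).toMonoidHom = X := by
      intro k
      induction k with
      | zero => exact map_id X
      | succ k ih =>
        rw [show (ψ ^ (2 * (k + 1)) : MulAut U).toMonoidHom =
          ((ψ.toMonoidHom.comp ψ.toMonoidHom).comp (ψ ^ (2 * k) : MulAut U).toMonoidHom) by
            rw [show 2 * (k + 1) = 2 + 2 * k by ring, pow_add, pow_two]; rfl,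
          ← map_map, ih, ← map_map]
        exact h2
    obtain ⟨k, hk'⟩ := hodd
    have hone : X.map (ψ ^ orderOf ψ : MulAut U).toMonoidHom = X := by
      rw [pow_orderOf_eq_one]; exact map_id X
    rw [hk', show (ψ ^ (2 * k + 1) : MulAut U).toMonoidHom =
      ψ.toMonoidHom.comp (ψ ^ (2 * k) : MulAut U).toMonoidHom by rw [pow_succ']; rfl,
      ← map_map, hk k] at hone
    exact hone
  refine three B hrad hidx hN hcnt hX (hmap hX) (hmap (hmap hX)) (Ne.symm h1) (Ne.symm h2)
    fun e => h1 ?_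
  exact (map_injective ψ.injective e).symm

/-- Induced automorphisms, of odd order, centralise every maximal singular subgroup modulo `Z`. -/
theorem line_fixed {X : Subgroup U} (hX : Line B X) (hodd : Odd (Nat.card (act σ U))) :
    ∀ φ ∈ act σ U, ∀ v ∈ X, φ v * v⁻¹ ∈ Z.subgroupOf U := by
  have hinvU : SInv σ U := B.cfg.invU
  set τ : MulAut U := restrict hinvU with hτ
  have hτX : X.map τ.toMonoidHom = X := by
    refine map_line B hrad hidx hN hcnt hX ?_ (fun z hz => ?_) fun u hu => ?_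
    · have hd : orderOf τ ∣ r := orderOf_dvd_of_pow_eq_one B.fd.hσ
      refine Odd.of_dvd_nat ?_ hd
      rw [B.cfg.hrm]
      exact (Nat.even_pow.mpr ⟨even_two, B.cfg.m_pos.ne'⟩).add_one
    · rw [hτ, (B.fd.fix z).mpr hz]; exact hz
    · show σ (u : G) ∈ center G
      rw [B.cfg.center_fix _ hu]; exact hu
  have hXi : SInv τ X := fun x hx => hτX.le ⟨x, hx, rfl⟩
  -- the form on `X`
  have D : FormData ((Z.subgroupOf U).subgroupOf X) (restrict hXi) r m :=
    { hr := B.cfg.hr
      hrm := B.cfg.hrm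
      m_pos := B.cfg.m_pos
      hσ := MulEquiv.ext fun u => Subtype.ext (by rw [H41.Shult.restrict_pow, B.fd.hσ]; rfl)
      sqZ := fun z hz => Subtype.ext (B.fd.sqZ _ hz)
      cen := fun z hz u => Subtype.ext (B.fd.cen _ hz _)
      sq := fun u => B.fd.sq (u : U)
      comm := fun u v => B.fd.comm (u : U) v
      fix := fun u => Subtype.ext_iff.trans (B.fd.fix (u : U)) }
  obtain ⟨v₀, hv₀U, hv₀⟩ := B.cfg.exists_moved
  obtain ⟨ε, hεo, hεb, -⟩ := B.exists_oblk (u := ⟨v₀, hv₀U⟩) fun h => hv₀ (B.fixZ h)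
  let ι : (Z.subgroupOf U).subgroupOf X →* Z.subgroupOf U :=
    { toFun := fun z => ⟨((z : X) : U), z.2⟩
      map_one' := rfl
      map_mul' := fun a b => rfl }
  set εX : (Z.subgroupOf U).subgroupOf X →* ℤˣ := ε.comp ι with hεX
  have hcm : ∀ a b : X, ι (D.cm a b) = B.fd.cm (a : U) b := fun a b => rfl
  -- inside `X` the central-valued form is nondegenerate
  have hXG : ∀ {x : G}, x ∈ X.map U.subtype → ∃ u : U, u ∈ X ∧ (u : G) = x := fun {x} hx => hx
  have hrX : D.rad εX = (Z.subgroupOf U).subgroupOf X := by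
    refine le_antisymm (fun a ha => ?_) (D.le_rad εX)
    rw [mem_subgroupOf]
    by_contra haZ
    obtain ⟨η, hηo, hηb, hout⟩ := B.exists_oblk (u := (a : U)) haZ
    haveI := B.fd.rad_normal η
    have hzero : ∀ b : X, B.fd.cm (a : U) b = 1 := fun b => by
      by_contra hne
      refine hεo (B.fd.cm (a : U) (b : U)) (line_comm B hX a.2 b.2) hne ?_
      have := ha b
      rwa [hεX, MonoidHom.comp_apply, hcm] at this
    have htop : X ⊔ B.fd.rad η = ⊤ := by
      refine (hηb.2 _ (fun y hy => ?_) le_sup_right).resolve_left fun he =>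
        hout (he.le (mem_sup_left a.2))
      obtain ⟨c, hc, b, hb, rfl⟩ := mem_sup_of_normal_right.mp hy
      rw [map_mul]
      exact mul_mem (mem_sup_left (hXi c hc)) (mem_sup_right (B.fd.sigma_rad hb))
    refine hout fun v => ?_
    obtain ⟨c, hc, b, hb, rfl⟩ := mem_sup_of_normal_right.mp (htop.ge (mem_top v))
    rw [B.fd.cm_mul_right, map_mul, hzero ⟨c, hc⟩, map_one, one_mul, B.fd.cm_comm]
    exact hb _
  have hblk : D.Blk εX := by
    refine ⟨?_, fun H hH hle => ?_⟩
    · rw [hrX]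
      have h := ((Z.subgroupOf U).subgroupOf X).card_mul_index
      rw [Nat.card_congr (subgroupOfEquivOfLe hX.1).toEquiv, hX.2.2, mul_comm (2 ^ (2 * m))] at h
      exact Nat.eq_of_mul_eq_mul_left Nat.card_pos h
    · rw [hrX] at hle ⊢
      by_cases hHZ : H ≤ (Z.subgroupOf U).subgroupOf X
      · exact Or.inl (le_antisymm hHZ hle)
      right
      obtain ⟨t, ht, htZ⟩ := SetLike.not_le_iff_exists.mp hHZ
      set F := (H.map X.subtype).map U.subtype with hF
      set XG := X.map U.subtype with hXG'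
      have e : F = XG := by
        refine B.iso_eq ?_ ?_ (map_subtype_le X) ?_ (fun z hz => ?_) ?_ fun hFZ => ?_
        · rintro _ ⟨_, ⟨x, hx, rfl⟩, rfl⟩
          exact ⟨_, ⟨_, hH x hx, rfl⟩, rfl⟩
        · rintro _ ⟨x, hx, rfl⟩
          exact ⟨_, hXi x hx, rfl⟩
        · rintro _ ⟨a, ha, rfl⟩ _ ⟨b, hb, rfl⟩
          exact line_comm B hX ha hb
        · exact ⟨⟨z, B.hZU hz⟩, ⟨⟨_, hX.1 (show (⟨z, B.hZU hz⟩ : U) ∈ Z.subgroupOf U from hz)⟩,
            hle (show (z : G) ∈ Z from hz), rfl⟩, rfl⟩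
        · exact map_mono (map_subtype_le H)
        · exact htZ (mem_subgroupOf.mpr
            (hFZ ⟨(t : U), ⟨t, ht, rfl⟩, rfl⟩ : ((t : U) : G) ∈ Z))
      refine eq_top_iff.mpr fun x _ => ?_
      obtain ⟨_, ⟨y, hy, rfl⟩, hyx⟩ :=
        e.ge (show ((x : U) : G) ∈ XG from ⟨(x : U), x.2, rfl⟩)
      have : y = x := Subtype.ext (Subtype.ext hyx)
      exact this ▸ hy
  -- each induced automorphism fixes `X`
  intro φ hφ v hv
  obtain ⟨n, hn, hnN, hne⟩ := H41.Shult.mem_act.mp hφ
  have hc : ∀ u : U, (u : G) ∈ center G → (φ u : G) = u := fun u hu => by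
    rw [hne, mem_center_iff.mp hu n, mul_inv_cancel_right]
  have hφodd : Odd (orderOf φ) := by
    have h1 : orderOf (⟨φ, hφ⟩ : act σ U) = orderOf φ := orderOf_mk φ hφ
    exact h1 ▸ Odd.of_dvd_nat hodd (orderOf_dvd_natCard _)
  have hφX : X.map φ.toMonoidHom = X :=
    map_line B hrad hidx hN hcnt hX hφodd (fun z hz => B.act_Z hφ hz)
      fun u hu => (hc u hu).symm ▸ hu
  have hφi : SInv φ X := fun x hx => hφX.le ⟨x, hx, rfl⟩
  have hord : Nat.Coprime r (orderOf (restrict hφi)) := by
    refine (B.act_cop hφ).coprime_dvd_right (orderOf_dvd_of_pow_eq_one ?_)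
    exact MulEquiv.ext fun u => Subtype.ext (by
      rw [H41.Shult.restrict_pow, pow_orderOf_eq_one]; rfl)
  have := D.stab hblk (restrict hφi) (fun u => Subtype.ext (B.act_sigma hφ (u : U))) hord
    (fun a b => by
      rw [hεX, MonoidHom.comp_apply, MonoidHom.comp_apply, hcm, hcm]
      show ε (B.fd.cm (φ (a : U)) (φ (b : U))) = _
      rw [B.cm_act hφ]
      congr 1
      exact Subtype.ext (Subtype.ext (hc _ (line_comm B hX a.2 b.2)))) ⟨v, hv⟩
  rw [hrX] at this
  exact this

end Count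

end

end H89.Shult
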